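import Cfsg.Agent.Lib.Helper21.Lo.Defs
import Cfsg.Agent.Lib.Helper13.LqCMOVE
import Cfsg.Agent.Lib.Helper13.LqCTOP
import Cfsg.Agent.Lib.Helper95.LqCZG
import Cfsg.Agent.Lib.Helper24.LsABCONJ
import Cfsg.Agent.Lib.Helper85.LoABORB2
import Cfsg.Agent.Lib.Helper33.LoAGRP
import Cfsg.Agent.Lib.Helper70.LoZA
import Cfsg.Agent.Lib.Helper78.LoORBcore
import Cfsg.Agent.Lib.Helper5.LoDUAL
import Cfsg.Agent.Lib.Helper70.LoSEP
import Cfsg.Agent.Lib.Helper68.LoLEVI
import Cfsg.Agent.Lib.Helper75.LoCOUNT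

set_option autoImplicit false

/-!
# `Lo` sub-hive (half (B) of helper14's `We` hive, S2347): the lower bound `(q^n - 1)/2` for `Sp_{2n}(q)`, `q` odd

Assembly (helper21) of the leaves AB-ORB2 (helper85), LO-ORB core (helper78), LO-DUAL (helper5), LO-SEP + LO-ZA (helper70),
LO-LEVI (helper68), LO-AGRP (helper33), LO-COUNT (helper75, with sub-leaves by helper5, 33, 43, 44, 61) and the `Lq`/`Ls`
leaves C-MOVE, C-TOP (helper13), C-ZG (helper95), AB-CONJ (helper24).
-/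

namespace Cfsg.Agent.Lib.Helper21.Lo

open Module Cfsg.Agent.Lib.Helper6.Ls Cfsg.Agent.Lib.Helper13 Cfsg.Agent.Lib.Helper21.Lq

universe w

variable {F : Type*} [Field F] [Fintype F] [DecidableEq F]

omit [Fintype F] [DecidableEq F] in
theorem e1_ne_zero (k : ℕ) : e1 F k ≠ 0 := by
  intro h
  have := congrFun h (Sum.inl 0)
  simp [e1] at this

/-- the bound for every representation on which some transvection group acts non-trivially. -/
theorem claim (hodd : Odd (Fintype.card F)) (k : ℕ)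
    (W : Type w) [AddCommGroup W] [Module ℂ W] [FiniteDimensional ℂ W]
    (ρ : Representation ℂ (Spg F (k + 1)) W) (hρ : RootNontriv ρ) :
    (Fintype.card F ^ (k + 1) - 1) / 2 ≤ finrank ℂ W := by
  obtain ⟨e, hnt⟩ := hρ
  have he : e ≠ 0 := by
    rintro rfl
    rw [Zgrp_zero] at hnt
    obtain ⟨z, hz, w, _, hw⟩ := hnt
    rw [Subgroup.mem_bot] at hz
    subst hz
    exact hw (by simp)
  obtain ⟨g, hg⟩ := exists_conj_Zgrp e (e1 F k) he (e1_ne_zero k)
  have hnt1 : ActsNontriv ρ (Zgrp (e1 F k)) ⊤ := by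
    rw [← hg]
    exact (actsNontriv_map_conj ρ (Zgrp e) g).2 hnt
  have hntA : ActsNontriv ρ (Agrp F (k + 1)) ⊤ := by
    obtain ⟨z, hz, w, hw, hne⟩ := hnt1
    exact ⟨z, Zgrp_e1_le_Agrp k hz, w, hw, hne⟩
  exact orb2_bound ρ (Agrp F (k + 1)) (Agrp_comm (k + 1)) _
    (fun μ h1 hmul hnt' => orbk_core (k + 1) (exists_dual hodd (k + 1))
      (fun M hM h0 => exists_congr_family hodd (k + 1) M hM h0)
      (fun ψ hψ N hN h0 => exists_sep hodd (k + 1) ψ hψ N hN h0)
      (mem_Agrp_iff (k + 1)) (uMat_mem (k + 1)) (exists_levi (k + 1)) μ h1 hmul hnt') hntA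

/-- **Half (B) of S2347**: every irreducible complex representation of `Sp_{2n}(F)`, `|F| = q` odd, of degree `≥ 2`
has degree `≥ (q^n - 1)/2`. (Exactly the first conjunct of the S2347 template.) -/
theorem lower_bound (n : ℕ) (hn : 2 ≤ n) (hodd : Odd (Fintype.card F)) :
    ∀ (k : ℕ) (ρ : Representation ℂ (Matrix.symplecticGroup (Fin n) F) (Fin k → ℂ)), ρ.IsIrreducible → 2 ≤ k →
      (Fintype.card F ^ n - 1) / 2 ≤ k := by
  intro k ρ hirr hk
  obtain ⟨m, rfl⟩ : ∃ m, n = m + 1 := ⟨n - 1, by omega⟩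
  have h := claim (F := F) hodd m (Fin k → ℂ) ρ (rootNontriv_of_irreducible (m + 1) k ρ hirr hk)
  rwa [Module.finrank_fin_fun] at h

end Cfsg.Agent.Lib.Helper21.Lo
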