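import Mathlib
import Cfsg.Agent.Lib.Helper21.Lq.Defs

set_option autoImplicit false

/-!
# `Lo` sub-hive (half (B) of helper14's `We` hive, S2347): lower bound `(q^n - 1)/2` for `Sp_{2n}(q)`, `q` odd — definitions

Setting of the `Lq` hive: `Spg F n = ↥(Matrix.symplecticGroup (Fin n) F)`, `Vec F n = Fin n ⊕ Fin n → F`,
`Zgrp e` the transvection group with centre `e`, `RootNontriv ρ` (all in `Cfsg.Agent.Lib.Helper21.Lq`), and helper6's
abstract layer `Cfsg.Agent.Lib.Helper6.Ls` (`ActsNontriv`, `eigIn`, ...).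

New here: the Siegel unipotent radical `A = {[[1,S],[0,1]] : Sᵀ = S}` (abelian, `≅ Sym_n(F)`), the Levi matrices
`[[g,0],[0,g⁻ᵀ]]`.  No induction on `n`: the characters of `A` are `S ↦ ψ(tr(M S))`, `M` symmetric; the Levi element of `g`
sends `M` to `g⁻ᵀ M g⁻¹`; a non-zero symmetric `M` has at least `(q^n - 1)/2` congruent matrices.
-/

namespace Cfsg.Agent.Lib.Helper21.Lo

open Module Cfsg.Agent.Lib.Helper6.Ls Cfsg.Agent.Lib.Helper13 Cfsg.Agent.Lib.Helper21.Lq

section siegel

variable {F : Type*} [Field F] {n : ℕ}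

/-- the Siegel unipotent matrix `[[1, S], [0, 1]]` (symplectic iff `S` is symmetric). -/
def uMat (S : Matrix (Fin n) (Fin n) F) : Matrix (Fin n ⊕ Fin n) (Fin n ⊕ Fin n) F :=
  Matrix.fromBlocks 1 S 0 1

/-- the Levi matrix `[[g, 0], [0, g⁻ᵀ]]` (symplectic if `g` is invertible). -/
noncomputable def lMat (g : Matrix (Fin n) (Fin n) F) : Matrix (Fin n ⊕ Fin n) (Fin n ⊕ Fin n) F :=
  Matrix.fromBlocks g 0 0 (g⁻¹).transpose

variable (F n)

/-- the Siegel unipotent elements. -/
def siegelSet : Set (Spg F n) :=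
  {a | ∃ S : Matrix (Fin n) (Fin n) F, S.transpose = S ∧
    (a : Matrix (Fin n ⊕ Fin n) (Fin n ⊕ Fin n) F) = uMat S}

/-- the Siegel unipotent radical `A` (closure of `siegelSet`; leaf `LO-AGRP`: it is the set, and it is abelian). -/
def Agrp : Subgroup (Spg F n) := Subgroup.closure (siegelSet F n)

/-- the first basis vector of the first half. -/
def e1 (k : ℕ) : Vec F (k + 1) := Pi.single (Sum.inl 0) 1

end siegel

end Cfsg.Agent.Lib.Helper21.Lo
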